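import Mathlib
import Cfsg.Agent.Lib.Core.PFrattini
import Cfsg.Agent.Lib.Known3.SimAut6

/-!
# Structure of a 2-group with small fourth hypercentre (first part)
-/

set_option autoImplicit false

namespace Cfsg.Agent.Lib.RuSyl

open Subgroup

section central

variable {T : Type*} [Group T] [Finite T]

/-- A proper inclusion of subgroups at least doubles the order. -/
theorem two_mul_card_le_of_lt {A B : Subgroup T} (h : A < B) : 2 * Nat.card A ≤ Nat.card B := by
  obtain ⟨m, hm⟩ := Subgroup.card_dvd_of_le h.le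
  have hA : 0 < Nat.card A := Nat.card_pos
  have hB : 0 < Nat.card B := Nat.card_pos
  have hm0 : m ≠ 0 := by
    rintro rfl
    simp at hm
    omega
  have hm1 : m ≠ 1 := by
    rintro rfl
    rw [mul_one] at hm
    exact h.ne (Subgroup.eq_of_le_of_card_ge h.le hm.le)
  have : 2 ≤ m := by omega
  rw [hm, mul_comm]
  exact Nat.mul_le_mul_left _ this

theorem exists_mem_succ_of_not_le (hT : Group.IsNilpotent T) (N : Subgroup T) [N.Normal] (i : ℕ)
    (h : ¬ N ≤ Subgroup.upperCentralSeries T i) :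
    ∃ y ∈ N, y ∉ Subgroup.upperCentralSeries T i ∧ y ∈ Subgroup.upperCentralSeries T (i + 1) := by
  classical
  obtain ⟨c, hc⟩ := Group.IsNilpotent.nilpotent T
  have hex : ∃ j, ∃ y ∈ N, y ∉ Subgroup.upperCentralSeries T i ∧ y ∈ Subgroup.upperCentralSeries T j := by
    obtain ⟨y, hy, hyi⟩ := SetLike.not_le_iff_exists.mp h
    exact ⟨c, y, hy, hyi, by rw [hc]; trivial⟩
  obtain ⟨y, hy, hyi, hyj⟩ := Nat.find_spec hex
  cases hj : Nat.find hex with
  | zero =>
    exfalso
    rw [hj, Subgroup.upperCentralSeries_zero, Subgroup.mem_bot] at hyj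
    exact hyi (hyj ▸ one_mem _)
  | succ j =>
    rw [hj] at hyj
    by_cases hall : ∀ t : T, y * t * y⁻¹ * t⁻¹ ∈ Subgroup.upperCentralSeries T i
    · exact ⟨y, hy, hyi, Subgroup.mem_upperCentralSeries_succ_iff.mpr hall⟩
    · exfalso
      push Not at hall
      obtain ⟨t, ht⟩ := hall
      have h1 : y * t * y⁻¹ * t⁻¹ ∈ N := by
        have : y * t * y⁻¹ * t⁻¹ = y * (t * y⁻¹ * t⁻¹) := by group
        rw [this]
        exact N.mul_mem hy (Subgroup.Normal.conj_mem ‹_› _ (N.inv_mem hy) t)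
      have h2 : y * t * y⁻¹ * t⁻¹ ∈ Subgroup.upperCentralSeries T j :=
        Subgroup.mem_upperCentralSeries_succ_iff.mp hyj t
      have hlt : j < Nat.find hex := by omega
      exact Nat.find_min hex hlt ⟨_, h1, ht, h2⟩

theorem card_inf_ge (hT : Group.IsNilpotent T) (N : Subgroup T) [N.Normal] (i : ℕ) :
    N ≤ Subgroup.upperCentralSeries T i ∨ 2 ^ i ≤ Nat.card ↥(N ⊓ Subgroup.upperCentralSeries T i) := by
  induction i with
  | zero =>
    right
    simpa using Nat.card_pos (α := ↥(N ⊓ Subgroup.upperCentralSeries T 0))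
  | succ i ih =>
    by_cases h : N ≤ Subgroup.upperCentralSeries T (i + 1)
    · exact Or.inl h
    right
    have hmono : Subgroup.upperCentralSeries T i ≤ Subgroup.upperCentralSeries T (i + 1) :=
      Subgroup.upperCentralSeries_mono T (Nat.le_succ i)
    have hni : ¬ N ≤ Subgroup.upperCentralSeries T i := fun h' => h (h'.trans hmono)
    have h1 := ih.resolve_left hni
    obtain ⟨y, hy, hyi, hy1⟩ := exists_mem_succ_of_not_le hT N i hni
    have hlt : N ⊓ Subgroup.upperCentralSeries T i < N ⊓ Subgroup.upperCentralSeries T (i + 1) := by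
      refine lt_of_le_of_ne (inf_le_inf_left _ hmono) ?_
      intro he
      have : y ∈ N ⊓ Subgroup.upperCentralSeries T i := by
        rw [he]
        exact ⟨hy, hy1⟩
      exact hyi this.2
    have h2 := two_mul_card_le_of_lt hlt
    rw [pow_succ]
    omega

/-- A normal subgroup of order `2^k` lies in the `k`-th term of the upper central series. -/
theorem le_upper_of_card (hT : Group.IsNilpotent T) (N : Subgroup T) [N.Normal] (k : ℕ)
    (hN : Nat.card N = 2 ^ k) : N ≤ Subgroup.upperCentralSeries T k := by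
  rcases card_inf_ge hT N k with h | h
  · exact h
  · have hle : N ⊓ Subgroup.upperCentralSeries T k ≤ N := inf_le_left
    have : N ⊓ Subgroup.upperCentralSeries T k = N :=
      Subgroup.eq_of_le_of_card_ge hle (by rw [hN]; exact h)
    exact inf_eq_left.mp this

/-- Two elements outside an index two subgroup differ by an element of it. -/
theorem inv_mul_mem_of_card_two {A B : Subgroup T} (hAB : A ≤ B)
    (hc : Nat.card B = 2 * Nat.card A) {a b : T} (ha : a ∈ B) (hb : b ∈ B) (ha' : a ∉ A)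
    (hb' : b ∉ A) : a⁻¹ * b ∈ A := by
  have hi : (A.subgroupOf B).index = 2 := by
    have h1 := Subgroup.card_mul_index (A.subgroupOf B)
    have h2 : Nat.card ↥(A.subgroupOf B) = Nat.card A := by
      exact Nat.card_congr (Subgroup.subgroupOfEquivOfLe hAB).toEquiv
    rw [h2, hc] at h1
    have hA : 0 < Nat.card A := Nat.card_pos
    have : Nat.card A * (A.subgroupOf B).index = Nat.card A * 2 := by linarith
    exact Nat.eq_of_mul_eq_mul_left hA this
  have h3 := (Subgroup.mul_mem_iff_of_index_two hi (a := (⟨a, ha⟩ : B)⁻¹) (b := (⟨b, hb⟩ : B)))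
  have h4 : ((⟨a, ha⟩ : B)⁻¹ ∈ A.subgroupOf B) ↔ False := by
    simp only [iff_false, Subgroup.mem_subgroupOf]
    intro h
    apply ha'
    simpa using h
  have h5 : ((⟨b, hb⟩ : B) ∈ A.subgroupOf B) ↔ False := by
    simp only [iff_false, Subgroup.mem_subgroupOf]
    exact hb'
  have h6 := h3.mpr (by rw [h4, h5])
  simpa [Subgroup.mem_subgroupOf] using h6

end central

section action

variable {T V : Type*} [Group T] [Finite T] [Group V] [Finite V]

/-- Fixed points of a `2`-group acting by automorphisms on a nontrivial invariant subgroup. -/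
theorem exists_fixed (hT : IsPGroup 2 T) (hV : IsPGroup 2 V) (ρ : T → V →* V)
    (h1 : ∀ v, ρ 1 v = v) (hmul : ∀ s t v, ρ (s * t) v = ρ s (ρ t v))
    (K : Subgroup V) (hK : ∀ t, ∀ v ∈ K, ρ t v ∈ K) (hne : K ≠ ⊥) :
    ∃ v ∈ K, v ≠ 1 ∧ ∀ t, ρ t v = v := by
  classical
  haveI : Fact (Nat.Prime 2) := ⟨Nat.prime_two⟩
  letI : MulAction T ↥K :=
    { smul := fun t v => ⟨ρ t v, hK t v v.2⟩
      one_smul := fun v => Subtype.ext (h1 v)
      mul_smul := fun s t v => Subtype.ext (hmul s t v) }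
  have hdvd : 2 ∣ Nat.card ↥K := by
    have hp : IsPGroup 2 ↥K := hV.to_subgroup K
    obtain ⟨n, hn⟩ := IsPGroup.iff_card.mp hp
    rw [hn]
    have hn0 : n ≠ 0 := by
      rintro rfl
      apply hne
      have : Nat.card ↥K = 1 := by simpa using hn
      exact Subgroup.eq_bot_of_card_eq _ this
    exact dvd_pow_self 2 hn0
  have hfix : (1 : ↥K) ∈ MulAction.fixedPoints T ↥K := by
    intro t
    apply Subtype.ext
    exact map_one (ρ t)
  obtain ⟨b, hb, hne'⟩ := IsPGroup.exists_fixed_point_of_prime_dvd_card_of_fixed_point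
    (p := 2) hT ↥K hdvd hfix
  refine ⟨b, b.2, ?_, ?_⟩
  · intro h
    exact hne' (Subtype.ext h.symm)
  · intro t
    exact congrArg Subtype.val (hb t)

/-- The number of points of a subgroup fixed by `B` is at most `2 ^ |T : B|`, when `V` has a subgroup
of index two with trivial core. -/
theorem card_fixed_le (ρ : T → V →* V) (h1 : ∀ v, ρ 1 v = v)
    (hmul : ∀ s t v, ρ (s * t) v = ρ s (ρ t v))
    (M : Subgroup V) (hM : M.index = 2)
    (hcore : ∀ v, (∀ t, ρ t v ∈ M) → v = 1) (B : Subgroup T) (S : Subgroup V)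
    (hS : ∀ v ∈ S, ∀ b ∈ B, ρ b v = v) : Nat.card S ≤ 2 ^ B.index := by
  classical
  have hinj : Function.Injective (fun (v : S) (q : T ⧸ B) => decide (ρ q.out (v : V) ∈ M)) := by
    intro v v' h
    have h' : ∀ q : T ⧸ B, (ρ q.out (v : V) ∈ M ↔ ρ q.out (v' : V) ∈ M) := by
      intro q
      have := congrFun h q
      simpa using this
    have key : (v : V)⁻¹ * v' = 1 := by
      apply hcore
      intro t
      obtain ⟨b, hb⟩ := QuotientGroup.mk_out_eq_mul B t
      have ht : t = (QuotientGroup.mk t : T ⧸ B).out * (b : T)⁻¹ := by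
        rw [hb]
        group
      rw [ht, hmul, hS _ (S.mul_mem (S.inv_mem v.2) v'.2) _ (B.inv_mem b.2), map_mul, map_inv]
      by_cases hv : ρ (QuotientGroup.mk t : T ⧸ B).out (v : V) ∈ M
      · exact M.mul_mem (M.inv_mem hv) ((h' _).mp hv)
      · have hv' : ρ (QuotientGroup.mk t : T ⧸ B).out (v' : V) ∉ M := fun h => hv ((h' _).mpr h)
        have := (Subgroup.mul_mem_iff_of_index_two hM
          (a := (ρ (QuotientGroup.mk t : T ⧸ B).out (v : V))⁻¹)
          (b := ρ (QuotientGroup.mk t : T ⧸ B).out (v' : V))).mpr (by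
            simp [hv, hv'])
        exact this
    exact Subtype.ext (inv_mul_eq_one.mp key)
  have := Nat.card_le_card_of_injective _ hinj
  rw [Nat.card_fun] at this
  simpa [Subgroup.index] using this

end action

section rank

variable {V : Type*} [Group V] [Finite V]

/-- `v ↦ v * r v`, as a homomorphism of a commutative group. -/
def sig (hcomm : ∀ a b : V, a * b = b * a) (r : V →* V) : V →* V where
  toFun v := v * r v
  map_one' := by simp
  map_mul' a b := by
    rw [map_mul, mul_assoc, mul_assoc, ← mul_assoc b, hcomm b (r a), mul_assoc]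

theorem sig_apply (hcomm : ∀ a b : V, a * b = b * a) (r : V →* V) (v : V) :
    sig hcomm r v = v * r v := rfl

theorem rank_lemma (hcomm : ∀ a b : V, a * b = b * a) (hexp : ∀ v : V, v * v = 1)
    (hcard : Nat.card V = 2 ^ 8) (r₁ r₂ : V →* V) (h₁ : ∀ v, r₁ (r₁ v) = v)
    (h₂ : ∀ v, r₂ (r₂ v) = v) (h₁₂ : ∀ v, r₁ (r₂ v) = r₂ (r₁ v))
    (hf1 : ∀ S : Subgroup V, (∀ v ∈ S, r₁ v = v) → Nat.card S ≤ 16)
    (hf2 : ∀ S : Subgroup V, (∀ v ∈ S, r₁ v = v ∧ r₂ v = v) → Nat.card S ≤ 4)
    (s : V) (hs1 : r₁ s = s) (hs2 : r₂ s = s) (hs : s ≠ 1) :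
    ∃ v' : V, (v' * r₂ v') * r₁ (v' * r₂ v') = s ∧ ∃ E : Subgroup V, E.index ≤ 8 ∧
      ∀ e ∈ E, ∃ u, e = u * r₁ u ∨ e = (u * r₁ u) * (v' * r₂ v') := by
  classical
  have hinv : ∀ v : V, v⁻¹ = v := fun v => inv_eq_of_mul_eq_one_left (hexp v)
  have hker : ∀ (r : V →* V) v, v ∈ (sig hcomm r).ker ↔ r v = v := by
    intro r v
    rw [MonoidHom.mem_ker, sig_apply]
    constructor
    · intro h
      have := mul_eq_one_iff_eq_inv'.mp h
      rw [hinv] at this
      exact this
    · intro h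
      rw [h, hexp]
  have hss : ∀ (r : V →* V), (∀ v, r (r v) = v) → ∀ v, sig hcomm r (sig hcomm r v) = 1 := by
    intro r hr v
    simp only [sig_apply, map_mul, hr]
    rw [hcomm v (r v)]
    exact hexp _
  set σ₁ := sig hcomm r₁ with hσ₁
  set σ₂ := sig hcomm r₂ with hσ₂
  have hσc : ∀ v, σ₁ (σ₂ v) = σ₂ (σ₁ v) := by
    intro v
    simp only [hσ₁, hσ₂, sig_apply, map_mul, h₁₂]
    rw [mul_assoc, mul_assoc, ← mul_assoc (r₂ v), ← mul_assoc (r₁ v), hcomm (r₂ v)]
  have hRY : σ₁.range ≤ σ₁.ker := by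
    rintro _ ⟨v, rfl⟩
    exact hss r₁ h₁ v
  have hYc : Nat.card σ₁.ker ≤ 16 := hf1 _ (fun v hv => (hker r₁ v).mp hv)
  have hprod : Nat.card σ₁.range * Nat.card σ₁.ker = 2 ^ 8 := by
    rw [← hcard, ← Subgroup.index_ker, mul_comm]
    exact Subgroup.card_mul_index _
  have hYc' : Nat.card σ₁.ker = 16 ∧ Nat.card σ₁.range = 16 := by
    have h3 : Nat.card σ₁.range ≤ Nat.card σ₁.ker := Subgroup.card_le_of_le hRY
    have h4 : 0 < Nat.card σ₁.ker := Nat.card_pos
    have h5 : 16 ≤ Nat.card σ₁.range := by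
      by_contra hlt
      push Not at hlt
      have : Nat.card σ₁.range * Nat.card σ₁.ker < 16 * 16 :=
        Nat.mul_lt_mul_of_lt_of_le hlt hYc (by norm_num)
      rw [hprod] at this
      norm_num at this
    omega
  have hRYeq : σ₁.range = σ₁.ker :=
    Subgroup.eq_of_le_of_card_ge hRY (by rw [hYc'.1, hYc'.2])
  let f : σ₁.ker →* V := σ₂.comp σ₁.ker.subtype
  have hfk : Nat.card f.ker ≤ 4 := by
    have h := hf2 (f.ker.map σ₁.ker.subtype) (by
      rintro _ ⟨y, hy, rfl⟩
      refine ⟨(hker r₁ _).mp y.2, (hker r₂ _).mp ?_⟩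
      exact hy)
    rwa [Subgroup.card_map_of_injective (Subgroup.subtype_injective _)] at h
  have hfprod : Nat.card f.range * Nat.card f.ker = 16 := by
    rw [← hYc'.1, ← Subgroup.index_ker, mul_comm]
    exact Subgroup.card_mul_index _
  have hfr : 4 ≤ Nat.card f.range := by
    by_contra hlt
    push Not at hlt
    have h4 : 0 < Nat.card f.ker := Nat.card_pos
    have : Nat.card f.range * Nat.card f.ker < 4 * 4 := Nat.mul_lt_mul_of_lt_of_le hlt hfk (by norm_num)
    rw [hfprod] at this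
    norm_num at this
  have hFle : f.range ≤ σ₁.ker ⊓ σ₂.ker := by
    rintro _ ⟨y, rfl⟩
    constructor
    · change σ₁ (σ₂ y) = 1
      rw [hσc, show σ₁ (y : V) = 1 from y.2, map_one]
    · exact hss r₂ h₂ _
  have hFc : Nat.card ↥(σ₁.ker ⊓ σ₂.ker) ≤ 4 :=
    hf2 _ (fun v hv => ⟨(hker r₁ v).mp hv.1, (hker r₂ v).mp hv.2⟩)
  have hFeq : f.range = σ₁.ker ⊓ σ₂.ker :=
    Subgroup.eq_of_le_of_card_ge hFle (by omega)
  have hsF : s ∈ f.range := by
    rw [hFeq]
    exact ⟨(hker r₁ s).mpr hs1, (hker r₂ s).mpr hs2⟩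
  obtain ⟨y, hy⟩ := hsF
  have hy' : (y : V) ∈ σ₁.range := by
    rw [hRYeq]
    exact y.2
  obtain ⟨v', hv'⟩ := hy'
  have hv0 : σ₁ (σ₂ v') = s := by
    rw [hσc, hv', ← hy]
    rfl
  refine ⟨v', hv0, (Subgroup.zpowers s).comap σ₁, ?_, ?_⟩
  · have hlt : σ₁.ker < (Subgroup.zpowers s).comap σ₁ := by
      refine lt_of_le_of_ne ?_ ?_
      · intro v hv
        rw [Subgroup.mem_comap, MonoidHom.mem_ker.mp hv]
        exact one_mem _
      · intro he
        have h1 : σ₂ v' ∈ (Subgroup.zpowers s).comap σ₁ := by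
          rw [Subgroup.mem_comap, hv0]
          exact Subgroup.mem_zpowers s
        rw [← he] at h1
        exact hs (hv0.symm.trans (MonoidHom.mem_ker.mp h1))
    have h2 := two_mul_card_le_of_lt hlt
    have h3 := Subgroup.card_mul_index ((Subgroup.zpowers s).comap σ₁)
    rw [hcard, hYc'.1] at *
    by_contra hi
    push Not at hi
    have : 32 * 9 ≤ Nat.card ↥((Subgroup.zpowers s).comap σ₁) * ((Subgroup.zpowers s).comap σ₁).index :=
      Nat.mul_le_mul (by omega) hi
    rw [h3] at this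
    norm_num at this
  · intro e he
    rw [Subgroup.mem_comap, Subgroup.mem_zpowers_iff] at he
    obtain ⟨n, hn⟩ := he
    have hs2' : s ^ (2 : ℤ) = 1 := by
      rw [zpow_two]
      exact hexp s
    rcases Int.even_or_odd' n with ⟨m, rfl | rfl⟩
    · have h0 : σ₁ e = 1 := by
        rw [← hn, zpow_mul, hs2', one_zpow]
      have : e ∈ σ₁.range := by
        rw [hRYeq]
        exact h0
      obtain ⟨u, hu⟩ := this
      exact ⟨u, Or.inl hu.symm⟩
    · have h0 : σ₁ e = s := by
        rw [← hn, zpow_add, zpow_mul, hs2', one_zpow, one_mul, zpow_one]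
      have h1 : σ₁ (e * (σ₂ v')⁻¹) = 1 := by
        rw [map_mul, map_inv, h0, hv0]
        simp
      have : e * (σ₂ v')⁻¹ ∈ σ₁.range := by
        rw [hRYeq]
        exact h1
      obtain ⟨u, hu⟩ := this
      refine ⟨u, Or.inr ?_⟩
      have h2 : e = σ₁ u * σ₂ v' := by
        rw [hu]
        group
      exact h2

end rank

end Cfsg.Agent.Lib.RuSyl
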