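import Mathlib
import Cfsg.Agent.Lib.RuSyl.Basic

/-!
# Action on a quotient of a normal subgroup
-/

set_option autoImplicit false

namespace Cfsg.Agent.Lib.RuSyl

open Subgroup

section quot

variable {T : Type*} [Group T] (W N : Subgroup T) [hW : W.Normal] [hN : N.Normal]

/-- The section `W / (N ∩ W)`. -/
abbrev VV := ↥W ⧸ (N.subgroupOf W)

/-- Conjugation on `W`. -/
def conjW (t : T) : ↥W →* ↥W := (MulAut.conjNormal t : MulAut W).toMonoidHom

theorem conjW_coe (t : T) (w : W) : (conjW W t w : T) = t * w * t⁻¹ := by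
  simp [conjW, MulAut.conjNormal_apply]

/-- Conjugation action on the section. -/
def act (t : T) : VV W N →* VV W N :=
  QuotientGroup.map _ _ (conjW W t) (by
    intro x hx
    rw [Subgroup.mem_comap, Subgroup.mem_subgroupOf] at *
    rw [conjW_coe]
    exact hN.conj_mem _ hx t)

theorem act_mk (t : T) (w : W) :
    act W N t (QuotientGroup.mk w) = QuotientGroup.mk (conjW W t w) := rfl

theorem act_one' (v : VV W N) : act W N 1 v = v := by
  induction v using QuotientGroup.induction_on with
  | H w =>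
    rw [act_mk]
    congr 1
    apply Subtype.ext
    rw [conjW_coe]
    simp

theorem act_mul' (s t : T) (v : VV W N) : act W N (s * t) v = act W N s (act W N t v) := by
  induction v using QuotientGroup.induction_on with
  | H w =>
    rw [act_mk, act_mk, act_mk]
    congr 1
    apply Subtype.ext
    rw [conjW_coe, conjW_coe, conjW_coe]
    group

theorem mk_eq_iff (a b : W) : ((QuotientGroup.mk a : VV W N) = QuotientGroup.mk b) ↔
    (a : T)⁻¹ * b ∈ N := by
  rw [QuotientGroup.eq, Subgroup.mem_subgroupOf]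
  simp

theorem mk_eq_one_iff (a : W) : ((QuotientGroup.mk a : VV W N) = 1) ↔ (a : T) ∈ N := by
  rw [QuotientGroup.eq_one_iff, Subgroup.mem_subgroupOf]

theorem act_eq_iff (t : T) (a : W) : act W N t (QuotientGroup.mk a) = QuotientGroup.mk a ↔
    t * a * t⁻¹ * (a : T)⁻¹ ∈ N := by
  rw [act_mk, mk_eq_iff, conjW_coe]
  rw [Subgroup.Normal.mem_comm_iff hN]
  have : (a : T) * (t * ↑a * t⁻¹)⁻¹ = (t * a * t⁻¹ * (a : T)⁻¹)⁻¹ := by group
  rw [← Subgroup.inv_mem_iff, this, inv_inv] 

end quot

section vlevel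

variable {T V : Type*} [Group T] [Finite T] [Group V] [Finite V]

/-- A subgroup of index two with trivial core avoiding the unique fixed vector. -/
theorem exists_M (hT : IsPGroup 2 T) (hV : IsPGroup 2 V) (ρ : T → V →* V)
    (h1 : ∀ v, ρ 1 v = v) (hmul : ∀ s t v, ρ (s * t) v = ρ s (ρ t v))
    (hcomm : ∀ a b : V, a * b = b * a) (hexp : ∀ v : V, v * v = 1) (s : V)
    (huniq : ∀ v, v ≠ 1 → (∀ t, ρ t v = v) → v = s) (hs : s ≠ 1) :
    ∃ M : Subgroup V, M.index = 2 ∧ ∀ v, (∀ t, ρ t v ∈ M) → v = 1 := by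
  classical
  haveI : Fact (Nat.Prime 2) := ⟨Nat.prime_two⟩
  have hfr : frattini V ≤ ⊥ := by
    apply Cfsg.Agent.Lib.Core.frattini_le_of_elementary 2
    · rw [commutator_def, Subgroup.commutator_le]
      intro a _ b _
      rw [Subgroup.mem_bot, commutatorElement_eq_one_iff_mul_comm]
      exact hcomm a b
    · intro x
      rw [Subgroup.mem_bot, pow_two]
      exact hexp x
  have hsf : s ∉ frattini V := fun h => hs ((Subgroup.mem_bot).mp (hfr h))
  have : ∃ M : Subgroup V, IsCoatom M ∧ s ∉ M := by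
    by_contra hcon
    push Not at hcon
    apply hsf
    simp only [frattini, Order.radical, Subgroup.mem_iInf]
    intro M hM
    exact hcon M hM
  obtain ⟨M, hMc, hsM⟩ := this
  refine ⟨M, Cfsg.Agent.Lib.PGroup.index_eq_prime_of_isCoatom hV hMc, ?_⟩
  let K : Subgroup V := ⨅ t : T, M.comap (ρ t)
  have hK : ∀ v, v ∈ K ↔ ∀ t, ρ t v ∈ M := by
    intro v
    simp [K, Subgroup.mem_iInf]
  have hKbot : K = ⊥ := by
    by_contra hne
    obtain ⟨v, hv, hv1, hfix⟩ := exists_fixed hT hV ρ h1 hmul K (by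
      intro t v hv
      rw [hK] at hv ⊢
      intro t'
      rw [← hmul]
      exact hv _) hne
    have hvs := huniq v hv1 hfix
    subst hvs
    apply hsM
    have := (hK v).mp hv 1
    rwa [h1] at this
  intro v hv
  have : v ∈ K := (hK v).mpr hv
  rw [hKbot] at this
  exact (Subgroup.mem_bot).mp this

end vlevel

end Cfsg.Agent.Lib.RuSyl
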