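import Mathlib
import Cfsg.Agent.Lib.RuSyl.Quot

/-!
# Chain of the upper central series; the action on the third term
-/

set_option autoImplicit false

namespace Cfsg.Agent.Lib.RuSyl

open Subgroup
open scoped commutatorElement

variable {T : Type*} [Group T] [Finite T]

/-- Shorthand for the upper central series. -/
abbrev Zs (T : Type*) [Group T] (i : ℕ) : Subgroup T := Subgroup.upperCentralSeries T i

theorem conj_comm_mem {i : ℕ} {x : T} (hx : x ∈ Zs T (i + 1)) (t : T) :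
    t * x * t⁻¹ * x⁻¹ ∈ Zs T i := by
  have h := Subgroup.mem_upperCentralSeries_succ_iff.mp hx t
  have h2 := (Zs T i).inv_mem h
  have e : (⁅x, t⁆ : T)⁻¹ = t * x * t⁻¹ * x⁻¹ := by
    rw [commutatorElement_def]
    group
  rwa [e] at h2

theorem mem_succ_of_conj {i : ℕ} {x : T} (h : ∀ t : T, t * x * t⁻¹ * x⁻¹ ∈ Zs T i) :
    x ∈ Zs T (i + 1) := by
  apply Subgroup.mem_upperCentralSeries_succ_iff.mpr
  intro t
  have h2 := (Zs T i).inv_mem (h t)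
  have e : (t * x * t⁻¹ * x⁻¹)⁻¹ = ⁅x, t⁆ := by
    rw [commutatorElement_def]
    group
  rwa [e] at h2

theorem upper_lt (hn : Group.IsNilpotent T) (i : ℕ) (hi : Zs T i ≠ ⊤) : Zs T i < Zs T (i + 1) := by
  refine lt_of_le_of_ne (Subgroup.upperCentralSeries_mono T (Nat.le_succ i)) ?_
  intro he
  have h1 : ¬ (⊤ : Subgroup T) ≤ Zs T i := fun h => hi (top_le_iff.mp h)
  obtain ⟨y, -, h2, h3⟩ := exists_mem_succ_of_not_le hn ⊤ i h1
  exact h2 (he.ge h3)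

theorem chain_cards (hT : IsPGroup 2 T) (ha : 2 ^ 14 ≤ Nat.card T) (hb : Nat.card ↥(Zs T 4) = 16) :
    Nat.card ↥(Zs T 0) = 1 ∧ Nat.card ↥(Zs T 1) = 2 ∧ Nat.card ↥(Zs T 2) = 4 ∧
      Nat.card ↥(Zs T 3) = 8 ∧ Zs T 0 < Zs T 1 ∧ Zs T 1 < Zs T 2 ∧ Zs T 2 < Zs T 3 ∧
      Zs T 3 < Zs T 4 := by
  haveI : Fact (Nat.Prime 2) := ⟨Nat.prime_two⟩
  have hn : Group.IsNilpotent T := hT.isNilpotent
  have hne : ∀ i, i ≤ 4 → Zs T i ≠ ⊤ := by
    intro i hi he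
    have h1 : Zs T i ≤ Zs T 4 := Subgroup.upperCentralSeries_mono T hi
    rw [he, top_le_iff] at h1
    rw [h1, Subgroup.card_top] at hb
    omega
  have l0 := upper_lt hn 0 (hne 0 (by omega))
  have l1 := upper_lt hn 1 (hne 1 (by omega))
  have l2 := upper_lt hn 2 (hne 2 (by omega))
  have l3 := upper_lt hn 3 (hne 3 (by omega))
  have c0 : 2 * Nat.card ↥(Zs T 0) ≤ Nat.card ↥(Zs T 1) := two_mul_card_le_of_lt l0
  have c1 : 2 * Nat.card ↥(Zs T 1) ≤ Nat.card ↥(Zs T 2) := two_mul_card_le_of_lt l1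
  have c2 : 2 * Nat.card ↥(Zs T 2) ≤ Nat.card ↥(Zs T 3) := two_mul_card_le_of_lt l2
  have c3 : 2 * Nat.card ↥(Zs T 3) ≤ Nat.card ↥(Zs T 4) := two_mul_card_le_of_lt l3
  have h0 : Nat.card ↥(Zs T 0) = 1 := by
    simp [Zs, Subgroup.upperCentralSeries_zero]
  refine ⟨h0, by omega, by omega, by omega, l0, l1, l2, l3⟩

section action

variable {W : Subgroup T}

theorem center_conj {x : T} (hx : x ∈ Zs T 1) (g : T) : g * x * g⁻¹ = x := by
  have hc : x ∈ center T := by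
    rw [Zs, Subgroup.upperCentralSeries_one] at hx
    exact hx
  rw [(Subgroup.mem_center_iff.mp hc g)]
  group

/-- An element fixing `e₂` and `e₃` fixes the third term of the upper central series. -/
theorem fix_Z3 (h1 : Nat.card ↥(Zs T 1) = 2) (h2 : Nat.card ↥(Zs T 2) = 4) (h3 : Nat.card ↥(Zs T 3) = 8)
    (l1 : Zs T 1 ≤ Zs T 2) (l2 : Zs T 2 ≤ Zs T 3)
    {e₂ e₃ : T} (he₂ : e₂ ∈ Zs T 2) (he₂' : e₂ ∉ Zs T 1) (he₃ : e₃ ∈ Zs T 3) (he₃' : e₃ ∉ Zs T 2)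
    {g : T} (hg2 : g * e₂ * g⁻¹ = e₂) (hg3 : g * e₃ * g⁻¹ = e₃) {x : T} (hx : x ∈ Zs T 3) :
    g * x * g⁻¹ = x := by
  have hmul : ∀ a b : T, g * a * g⁻¹ = a → g * b * g⁻¹ = b → g * (a * b) * g⁻¹ = a * b := by
    intro a b ha hb
    calc g * (a * b) * g⁻¹ = (g * a * g⁻¹) * (g * b * g⁻¹) := by group
      _ = a * b := by rw [ha, hb]
  have hZ2 : ∀ y ∈ Zs T 2, g * y * g⁻¹ = y := by
    intro y hy
    by_cases hy1 : y ∈ Zs T 1
    · exact center_conj hy1 g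
    · have h := inv_mul_mem_of_card_two l1 (by rw [h1, h2]) he₂ hy he₂' hy1
      have := hmul _ _ hg2 (center_conj h g)
      rwa [mul_inv_cancel_left] at this
  by_cases hx2 : x ∈ Zs T 2
  · exact hZ2 x hx2
  · have h := inv_mul_mem_of_card_two l2 (by rw [h2, h3]) he₃ hx he₃' hx2
    have := hmul _ _ hg3 (hZ2 _ h)
    rwa [mul_inv_cancel_left] at this

theorem mem_W_of_fix (hW : W = Subgroup.centralizer ((Zs T 3 : Subgroup T) : Set T)) {g : T}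
    (h : ∀ x ∈ Zs T 3, g * x * g⁻¹ = x) : g ∈ W := by
  rw [hW, Subgroup.mem_centralizer_iff]
  intro x hx
  have := h x hx
  rw [mul_inv_eq_iff_eq_mul] at this
  exact this.symm

theorem fix_of_mem_W (hW : W = Subgroup.centralizer ((Zs T 3 : Subgroup T) : Set T)) {g : T}
    (hg : g ∈ W) {x : T} (hx : x ∈ Zs T 3) : g * x = x * g := by
  rw [hW, Subgroup.mem_centralizer_iff] at hg
  exact (hg x hx).symm

theorem W_normal (hW : W = Subgroup.centralizer ((Zs T 3 : Subgroup T) : Set T)) : W.Normal := by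
  subst hW
  exact Subgroup.normal_centralizer

/-- The action on `e₂, e₃` determines the coset of `W`. -/
theorem index_theta (hW : W = Subgroup.centralizer ((Zs T 3 : Subgroup T) : Set T)) [W.Normal]
    (h1 : Nat.card ↥(Zs T 1) = 2) (h2 : Nat.card ↥(Zs T 2) = 4) (h3 : Nat.card ↥(Zs T 3) = 8)
    (l1 : Zs T 1 ≤ Zs T 2) (l2 : Zs T 2 ≤ Zs T 3)
    {e₂ e₃ : T} (he₂ : e₂ ∈ Zs T 2) (he₂' : e₂ ∉ Zs T 1) (he₃ : e₃ ∈ Zs T 3) (he₃' : e₃ ∉ Zs T 2) :
    W.index ≤ 8 ∧ (W.index = 8 → ∀ α ∈ Zs T 1, ∀ β ∈ Zs T 2, ∃ t : T,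
      t * e₂ * t⁻¹ * e₂⁻¹ = α ∧ t * e₃ * t⁻¹ * e₃⁻¹ = β) := by
  classical
  let θ : T ⧸ W → ↥(Zs T 1) × ↥(Zs T 2) := fun q =>
    (⟨q.out * e₂ * q.out⁻¹ * e₂⁻¹, conj_comm_mem he₂ _⟩, ⟨q.out * e₃ * q.out⁻¹ * e₃⁻¹, conj_comm_mem he₃ _⟩)
  have hinj : Function.Injective θ := by
    intro q q' h
    have h20 := congrArg (fun p => (p.1 : T)) h
    have h30 := congrArg (fun p => (p.2 : T)) h
    simp only [θ] at h20 h30
    have h21 : q.out * e₂ * q.out⁻¹ = q'.out * e₂ * q'.out⁻¹ := mul_right_cancel h20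
    have h31 : q.out * e₃ * q.out⁻¹ = q'.out * e₃ * q'.out⁻¹ := mul_right_cancel h30
    have hfix : ∀ x : T, q.out * x * q.out⁻¹ = q'.out * x * q'.out⁻¹ →
        (q.out⁻¹ * q'.out) * x * (q.out⁻¹ * q'.out)⁻¹ = x := by
      intro x hx
      calc (q.out⁻¹ * q'.out) * x * (q.out⁻¹ * q'.out)⁻¹
          = q.out⁻¹ * (q'.out * x * q'.out⁻¹) * q.out := by group
        _ = q.out⁻¹ * (q.out * x * q.out⁻¹) * q.out := by rw [hx]
        _ = x := by group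
    have hmem : q.out⁻¹ * q'.out ∈ W := mem_W_of_fix hW (fun x hx =>
      fix_Z3 h1 h2 h3 l1 l2 he₂ he₂' he₃ he₃' (hfix _ h21) (hfix _ h31) hx)
    have : (QuotientGroup.mk q.out : T ⧸ W) = QuotientGroup.mk q'.out := QuotientGroup.eq.mpr hmem
    simpa using this
  have hcard : Nat.card (↥(Zs T 1) × ↥(Zs T 2)) = 8 := by
    rw [Nat.card_prod, h1, h2]
  have hle : W.index ≤ 8 := by
    rw [← hcard]
    exact Nat.card_le_card_of_injective θ hinj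
  refine ⟨hle, ?_⟩
  intro hidx α hα β hβ
  have hbij : Function.Bijective θ := by
    rw [Nat.bijective_iff_injective_and_card]
    exact ⟨hinj, by rw [hcard]; exact hidx⟩
  obtain ⟨q, hq⟩ := hbij.2 (⟨α, hα⟩, ⟨β, hβ⟩)
  have h20 := congrArg (fun p => (p.1 : T)) hq
  have h30 := congrArg (fun p => (p.2 : T)) hq
  exact ⟨q.out, h20, h30⟩

end action

end Cfsg.Agent.Lib.RuSyl
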