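import Mathlib
import Cfsg.Agent.Lib.RuSyl.Chain

/-!
# The Frattini subgroup of the centralizer of the third hypercentre
-/

set_option autoImplicit false

namespace Cfsg.Agent.Lib.RuSyl

open Subgroup
open scoped commutatorElement

variable {T : Type*} [Group T] [Finite T]

section sect

variable {W N : Subgroup T} [W.Normal] [N.Normal]

theorem V_comm (hbr : ∀ a ∈ W, ∀ b ∈ W, a * b * a⁻¹ * b⁻¹ ∈ N) (a b : VV W N) : a * b = b * a := by
  induction a using QuotientGroup.induction_on with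
  | H a =>
  induction b using QuotientGroup.induction_on with
  | H b =>
  rw [← QuotientGroup.mk_mul, ← QuotientGroup.mk_mul, mk_eq_iff]
  have := hbr _ (W.inv_mem b.2) _ (W.inv_mem a.2)
  convert this using 1
  simp only [Subgroup.coe_mul]
  group

theorem V_exp (hsq : ∀ a ∈ W, a * a ∈ N) (a : VV W N) : a * a = 1 := by
  induction a using QuotientGroup.induction_on with
  | H a =>
  rw [← QuotientGroup.mk_mul, mk_eq_one_iff]
  exact hsq _ a.2

theorem V_pgroup (hT : IsPGroup 2 T) : IsPGroup 2 (VV W N) :=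
  (hT.to_subgroup W).to_quotient _

end sect

section bound

variable {W : Subgroup T} [W.Normal]

theorem V_uniq {f : ℕ} (hcardf : Nat.card ↥(Zs T (f + 1)) = 2 * Nat.card ↥(Zs T f))
    (hle : Zs T f ≤ Zs T (f + 1)) (s v : VV W (Zs T f)) (hs : s ≠ 1) (hv : v ≠ 1)
    (hsf : ∀ t, act W (Zs T f) t s = s) (hvf : ∀ t, act W (Zs T f) t v = v) : v = s := by
  induction s using QuotientGroup.induction_on with
  | H b =>
  induction v using QuotientGroup.induction_on with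
  | H a =>
  have hb : (b : T) ∉ Zs T f := fun h => hs ((mk_eq_one_iff W _ b).mpr h)
  have ha : (a : T) ∉ Zs T f := fun h => hv ((mk_eq_one_iff W _ a).mpr h)
  have hb' : (b : T) ∈ Zs T (f + 1) :=
    mem_succ_of_conj (fun t => (act_eq_iff W _ t b).mp (hsf t))
  have ha' : (a : T) ∈ Zs T (f + 1) :=
    mem_succ_of_conj (fun t => (act_eq_iff W _ t a).mp (hvf t))
  rw [mk_eq_iff]
  exact inv_mul_mem_of_card_two hle hcardf ha' hb' ha hb

theorem act_W {N : Subgroup T} [N.Normal] (hbr : ∀ a ∈ W, ∀ b ∈ W, a * b * a⁻¹ * b⁻¹ ∈ N)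
    {b : T} (hb : b ∈ W) (v : VV W N) : act W N b v = v := by
  induction v using QuotientGroup.induction_on with
  | H a =>
  rw [act_eq_iff]
  exact hbr _ hb _ a.2

/-- The general bound on the section `W / Z_f`. -/
theorem bound_V (hT : IsPGroup 2 T) {f : ℕ}
    (hcardf : Nat.card ↥(Zs T (f + 1)) = 2 * Nat.card ↥(Zs T f)) (hle : Zs T f ≤ Zs T (f + 1))
    (hbr : ∀ a ∈ W, ∀ b ∈ W, a * b * a⁻¹ * b⁻¹ ∈ Zs T f) (hsq : ∀ a ∈ W, a * a ∈ Zs T f)
    (hne : ¬ W ≤ Zs T f) : Nat.card (VV W (Zs T f)) ≤ 2 ^ W.index := by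
  classical
  have hVp := V_pgroup (W := W) (N := Zs T f) hT
  obtain ⟨a, ha, ha'⟩ := SetLike.not_le_iff_exists.mp hne
  have hV1 : (QuotientGroup.mk (⟨a, ha⟩ : W) : VV W (Zs T f)) ≠ 1 :=
    fun h => ha' ((mk_eq_one_iff W _ _).mp h)
  have htop : (⊤ : Subgroup (VV W (Zs T f))) ≠ ⊥ := by
    intro h
    apply hV1
    have : (QuotientGroup.mk (⟨a, ha⟩ : W) : VV W (Zs T f)) ∈ (⊤ : Subgroup (VV W (Zs T f))) := trivial
    rw [h] at this
    exact (Subgroup.mem_bot).mp this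
  obtain ⟨s, -, hs1, hsf⟩ := exists_fixed hT hVp (act W (Zs T f)) (act_one' W _) (act_mul' W _) ⊤
    (fun _ _ _ => trivial) htop
  obtain ⟨M, hM, hcore⟩ := exists_M hT hVp (act W (Zs T f)) (act_one' W _) (act_mul' W _)
    (V_comm hbr) (V_exp hsq) s
    (fun v hv hvf => V_uniq hcardf hle s v hs1 hv hsf hvf) hs1
  have := card_fixed_le (act W (Zs T f)) (act_one' W _) (act_mul' W _) M hM hcore W ⊤
    (fun v _ b hb => act_W hbr hb v)
  rwa [Subgroup.card_top] at this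

end bound

theorem card_W_eq {W N : Subgroup T} [N.Normal] (hNW : N ≤ W) :
    Nat.card W = Nat.card (VV W N) * Nat.card N := by
  have h := Subgroup.card_eq_card_quotient_mul_card_subgroup (N.subgroupOf W)
  rw [h]
  congr 1
  exact Nat.card_congr (Subgroup.subgroupOfEquivOfLe hNW).toEquiv

/-- Main numerical step. -/
theorem frat_part (hT : IsPGroup 2 T) (ha : 2 ^ 14 ≤ Nat.card T) (hb : Nat.card ↥(Zs T 4) = 16)
    (W : Subgroup T) (hW : W = Subgroup.centralizer ((Zs T 3 : Subgroup T) : Set T))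
    (hc : Nat.card ↥(frattini ↥W) ≤ 8) :
    W.index = 8 ∧ Nat.card T = 2 ^ 14 ∧ (frattini ↥W).map W.subtype = Zs T 3 ∧
      Nat.card (↥W ⧸ (Zs T 3).subgroupOf W) = 2 ^ 8 := by
  classical
  haveI : Fact (Nat.Prime 2) := ⟨Nat.prime_two⟩
  haveI hWn : W.Normal := W_normal hW
  have hn : Group.IsNilpotent T := hT.isNilpotent
  obtain ⟨c0, c1, c2, c3, l0, l1, l2, l3⟩ := chain_cards hT ha hb
  obtain ⟨e₂, he₂, he₂'⟩ := SetLike.exists_of_lt l1
  obtain ⟨e₃, he₃, he₃'⟩ := SetLike.exists_of_lt l2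
  have hidx := (index_theta hW c1 c2 c3 l1.le l2.le he₂ he₂' he₃ he₃').1
  set F := (frattini ↥W).map W.subtype with hF
  haveI hFn : F.Normal := by
    rw [hF]
    infer_instance
  have hcF : Nat.card F ≤ 8 := by
    rw [hF, Subgroup.card_map_of_injective (Subgroup.subtype_injective _)]
    exact hc
  have hWp : IsPGroup 2 ↥W := hT.to_subgroup W
  obtain ⟨hfr1, hfr2⟩ := Cfsg.Agent.Lib.Core.frattini_pgroup 2 hWp
  have hsqF : ∀ a ∈ W, a * a ∈ F := by
    intro a ha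
    refine ⟨(⟨a, ha⟩ : W) ^ 2, hfr2 _, ?_⟩
    simp [pow_two]
  have hbrF : ∀ a ∈ W, ∀ b ∈ W, a * b * a⁻¹ * b⁻¹ ∈ F := by
    intro a ha b hb
    refine ⟨⁅(⟨a, ha⟩ : W), (⟨b, hb⟩ : W)⁆, hfr1 (Subgroup.commutator_mem_commutator trivial trivial), ?_⟩
    simp [commutatorElement_def]
  obtain ⟨f, hf⟩ := IsPGroup.iff_card.mp (hT.to_subgroup F)
  have hf3 : f ≤ 3 := by
    by_contra hlt
    push Not at hlt
    have : 2 ^ 4 ≤ 2 ^ f := Nat.pow_le_pow_right (by norm_num) hlt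
    rw [← hf] at this
    omega
  have hcz : Nat.card ↥(Zs T f) = 2 ^ f ∧ Nat.card ↥(Zs T (f + 1)) = 2 * Nat.card ↥(Zs T f) ∧
      Zs T f ≤ Zs T (f + 1) := by
    refine ⟨?_, ?_, Subgroup.upperCentralSeries_mono T (Nat.le_succ f)⟩
    · interval_cases f
      · exact c0
      · exact c1
      · exact c2
      · exact c3
    · interval_cases f
      · show Nat.card ↥(Zs T 1) = 2 * Nat.card ↥(Zs T 0)
        rw [c1, c0]
      · show Nat.card ↥(Zs T 2) = 2 * Nat.card ↥(Zs T 1)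
        rw [c2, c1]
      · show Nat.card ↥(Zs T 3) = 2 * Nat.card ↥(Zs T 2)
        rw [c3, c2]
      · show Nat.card ↥(Zs T 4) = 2 * Nat.card ↥(Zs T 3)
        rw [hb, c3]
  have hFZ : F = Zs T f :=
    Subgroup.eq_of_le_of_card_ge (le_upper_of_card hn F f hf) (by rw [hcz.1, hf])
  have hFW : F ≤ W := Subgroup.map_subtype_le _
  have hcW : Nat.card W = Nat.card (VV W (Zs T f)) * Nat.card ↥(Zs T f) := by
    rw [← hFZ]
    exact card_W_eq hFW
  have hcT : Nat.card T = Nat.card W * W.index := (Subgroup.card_mul_index W).symm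
  have hcFZ : Nat.card ↥(Zs T f) ≤ 8 := by rw [← hFZ]; exact hcF
  have hne : ¬ W ≤ Zs T f := by
    intro h
    have h1 : Nat.card W ≤ Nat.card ↥(Zs T f) := Subgroup.card_le_of_le h
    have : Nat.card T ≤ 8 * 8 := by
      rw [hcT]
      exact Nat.mul_le_mul (h1.trans hcFZ) hidx
    omega
  have hbd := bound_V hT hcz.2.1 hcz.2.2 (hFZ ▸ hbrF) (hFZ ▸ hsqF) hne
  have hV0 : 0 < Nat.card (VV W (Zs T f)) := Nat.card_pos
  have hF0 : 0 < Nat.card ↥(Zs T f) := Nat.card_pos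
  have hq0 : 0 < W.index := Nat.pos_of_ne_zero Subgroup.index_ne_zero_of_finite
  have hprod : 2 ^ 14 ≤ Nat.card (VV W (Zs T f)) * Nat.card ↥(Zs T f) * W.index := by
    rw [← hcW, ← hcT]
    exact ha
  have hq8 : W.index = 8 := by
    by_contra hne8
    have hq7 : W.index ≤ 7 := by omega
    have h1 : Nat.card (VV W (Zs T f)) ≤ 2 ^ 7 := hbd.trans (Nat.pow_le_pow_right (by norm_num) hq7)
    have : Nat.card (VV W (Zs T f)) * Nat.card ↥(Zs T f) * W.index ≤ 2 ^ 7 * 8 * 7 :=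
      Nat.mul_le_mul (Nat.mul_le_mul h1 hcFZ) hq7
    omega
  rw [hq8] at hbd hprod
  have hF8 : Nat.card ↥(Zs T f) = 8 := by
    by_contra hne8
    have h7 : Nat.card ↥(Zs T f) ≤ 7 := by omega
    have : Nat.card (VV W (Zs T f)) * Nat.card ↥(Zs T f) * 8 ≤ 2 ^ 8 * 7 * 8 :=
      Nat.mul_le_mul (Nat.mul_le_mul hbd h7) le_rfl
    omega
  rw [hF8] at hprod
  have hV8 : Nat.card (VV W (Zs T f)) = 2 ^ 8 := by omega
  have hf3' : f = 3 := by
    have : 2 ^ f = 2 ^ 3 := by rw [← hcz.1, hF8]; norm_num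
    exact Nat.pow_right_injective (le_refl 2) this
  subst hf3'
  refine ⟨hq8, ?_, hFZ, hV8⟩
  rw [hcT, hcW, hV8, hF8, hq8]
  norm_num

end Cfsg.Agent.Lib.RuSyl
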