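import Mathlib
import Cfsg.Agent.Lib.RuSyl.Frat

/-!
# The derived subgroup of the centralizer of the third hypercentre
-/

set_option autoImplicit false

namespace Cfsg.Agent.Lib.RuSyl

open Subgroup
open scoped commutatorElement

theorem exists_avoid {G : Type*} [Group G] [Finite G] (hG : IsPGroup 2 G) (N : Subgroup G)
    [hN : N.Normal] (E : Subgroup G) (hE : ∀ g ∈ E, g * g ∈ N) (x : G) (hxE : x ∈ E) (hxN : x ∉ N) :
    ∃ U : Subgroup G, x ∉ U ∧ U.index ≤ 2 * E.index := by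
  classical
  haveI : Fact (Nat.Prime 2) := ⟨Nat.prime_two⟩
  have hbr : ∀ a ∈ E, ∀ b ∈ E, a * b * a⁻¹ * b⁻¹ ∈ N := by
    intro a ha b hb
    have e : a * b * a⁻¹ * b⁻¹ = ((a * b) * (a * b)) * (b⁻¹ * (a * a)⁻¹ * b) * (b * b)⁻¹ := by group
    rw [e]
    refine N.mul_mem (N.mul_mem (hE _ (E.mul_mem ha hb)) ?_) (N.inv_mem (hE _ hb))
    have := hN.conj_mem _ (N.inv_mem (hE _ ha)) b⁻¹
    simpa using this
  have hfr : frattini ↥E ≤ N.subgroupOf E := by
    apply Cfsg.Agent.Lib.Core.frattini_le_of_elementary 2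
    · rw [commutator_def, Subgroup.commutator_le]
      intro a _ b _
      rw [Subgroup.mem_subgroupOf]
      simpa [commutatorElement_def] using hbr a a.2 b b.2
    · intro y
      rw [Subgroup.mem_subgroupOf]
      simpa [pow_two] using hE y y.2
  have hx' : (⟨x, hxE⟩ : E) ∉ frattini ↥E := fun h => hxN (by
    have := hfr h
    rwa [Subgroup.mem_subgroupOf] at this)
  have : ∃ M : Subgroup ↥E, IsCoatom M ∧ (⟨x, hxE⟩ : E) ∉ M := by
    by_contra hcon
    push Not at hcon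
    apply hx'
    simp only [frattini, Order.radical, Subgroup.mem_iInf]
    intro M hM
    exact hcon M hM
  obtain ⟨M, hMc, hxM⟩ := this
  have hi := Cfsg.Agent.Lib.PGroup.index_eq_prime_of_isCoatom (hG.to_subgroup E) hMc
  refine ⟨M.map E.subtype, ?_, ?_⟩
  · rintro ⟨y, hy, hyx⟩
    have : y = ⟨x, hxE⟩ := Subtype.ext hyx
    exact hxM (this ▸ hy)
  · rw [Subgroup.index_map_subtype, hi]

theorem index_le_two_of {G : Type*} [Group G] (S : Subgroup G)
    (h : ∀ a b, a ∉ S → b ∉ S → a⁻¹ * b ∈ S) : S.index ≤ 2 := by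
  classical
  by_cases hS : S = ⊤
  · rw [hS, Subgroup.index_top]
    norm_num
  obtain ⟨a, ha⟩ : ∃ a, a ∉ S := by
    by_contra hcon
    push Not at hcon
    exact hS (by ext x; simpa using hcon x)
  have : S.index = 2 := by
    rw [Subgroup.index_eq_two_iff]
    refine ⟨a, fun b => ?_⟩
    by_cases hb : b ∈ S
    · right
      exact ⟨hb, fun h' => ha (by
        have := S.mul_mem (S.inv_mem hb) h'
        simpa using this)⟩
    · left
      refine ⟨?_, hb⟩
      have := h b⁻¹ a (fun h' => hb (by simpa using S.inv_mem h')) ha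
      simpa using this
  omega

theorem comm_sq {G : Type*} [Group G] (a b : G)
    (h1 : a * (a * b * a⁻¹ * b⁻¹) = (a * b * a⁻¹ * b⁻¹) * a) (h2 : b * (a * a) = (a * a) * b) :
    (a * b * a⁻¹ * b⁻¹) * (a * b * a⁻¹ * b⁻¹) = 1 := by
  calc (a * b * a⁻¹ * b⁻¹) * (a * b * a⁻¹ * b⁻¹)
      = ((a * b * a⁻¹ * b⁻¹) * a) * b * a⁻¹ * b⁻¹ := by group
    _ = (a * (a * b * a⁻¹ * b⁻¹)) * b * a⁻¹ * b⁻¹ := by rw [h1]
    _ = (a * a) * b * (a * a)⁻¹ * b⁻¹ := by group
    _ = b * (a * a) * (a * a)⁻¹ * b⁻¹ := by rw [h2]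
    _ = 1 := by group

variable {T : Type*} [Group T] [Finite T]

theorem comm_part (hT : IsPGroup 2 T) (ha : 2 ^ 14 ≤ Nat.card T) (hb : Nat.card ↥(Zs T 4) = 16)
    (W : Subgroup T) (hW : W = Subgroup.centralizer ((Zs T 3 : Subgroup T) : Set T))
    (hF : (frattini ↥W).map W.subtype = Zs T 3)
    (hd : ∀ U : Subgroup ↥W, U.index ≤ 16 → frattini ↥W ≤ U) :
    (commutator ↥W).map W.subtype = Zs T 3 ∧ ∀ z ∈ Zs T 3, z * z = 1 := by
  classical
  haveI : Fact (Nat.Prime 2) := ⟨Nat.prime_two⟩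
  haveI hWn : W.Normal := W_normal hW
  have hn : Group.IsNilpotent T := hT.isNilpotent
  obtain ⟨c0, c1, c2, c3, l0, l1, l2, l3⟩ := chain_cards hT ha hb
  obtain ⟨e₃, he₃, he₃'⟩ := SetLike.exists_of_lt l2
  have hWp : IsPGroup 2 ↥W := hT.to_subgroup W
  obtain ⟨hfr1, hfr2⟩ := Cfsg.Agent.Lib.Core.frattini_pgroup 2 hWp
  have hZW : Zs T 3 ≤ W := by
    rw [← hF]
    exact Subgroup.map_subtype_le _
  have hsq3 : ∀ a ∈ W, a * a ∈ Zs T 3 := by
    intro a ha
    rw [← hF]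
    refine ⟨(⟨a, ha⟩ : W) ^ 2, hfr2 _, ?_⟩
    simp [pow_two]
  have hbr3 : ∀ a ∈ W, ∀ b ∈ W, a * b * a⁻¹ * b⁻¹ ∈ Zs T 3 := by
    intro a ha b hb
    rw [← hF]
    refine ⟨⁅(⟨a, ha⟩ : W), (⟨b, hb⟩ : W)⁆, hfr1 (Subgroup.commutator_mem_commutator trivial trivial), ?_⟩
    simp [commutatorElement_def]
  set C := (commutator ↥W).map W.subtype with hC
  haveI hCn : C.Normal := by
    rw [hC]
    infer_instance
  have hCle : C ≤ Zs T 3 := by
    rw [← hF, hC]
    exact Subgroup.map_mono hfr1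
  have hbrC : ∀ a ∈ W, ∀ b ∈ W, a * b * a⁻¹ * b⁻¹ ∈ C := by
    intro a ha b hb
    refine ⟨⁅(⟨a, ha⟩ : W), (⟨b, hb⟩ : W)⁆, Subgroup.commutator_mem_commutator trivial trivial, ?_⟩
    simp [commutatorElement_def]
  have hCeq : C = Zs T 3 := by
    by_contra hne
    obtain ⟨k, hk⟩ := IsPGroup.iff_card.mp (hT.to_subgroup C)
    have hle : Nat.card C ≤ 8 := by
      rw [← c3]
      exact Subgroup.card_le_of_le hCle
    have hk3 : k ≤ 2 := by
      by_contra hlt
      push Not at hlt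
      have h8 : 2 ^ 3 ≤ 2 ^ k := Nat.pow_le_pow_right (by norm_num) hlt
      rw [← hk] at h8
      apply hne
      apply Subgroup.eq_of_le_of_card_ge hCle
      rw [c3]
      exact h8
    have hC2 : C ≤ Zs T 2 :=
      (le_upper_of_card hn C k hk).trans (Subgroup.upperCentralSeries_mono T hk3)
    have hbr2 : ∀ a ∈ W, ∀ b ∈ W, a * b * a⁻¹ * b⁻¹ ∈ Zs T 2 :=
      fun a ha b hb => hC2 (hbrC a ha b hb)
    let S : Subgroup ↥W :=
      { carrier := {w | (w : T) * w ∈ Zs T 2}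
        one_mem' := by simp
        mul_mem' := by
          intro x y hx hy
          have hx' : (x : T) * x ∈ Zs T 2 := hx
          have hy' : (y : T) * y ∈ Zs T 2 := hy
          show ((x * y : W) : T) * (x * y : W) ∈ Zs T 2
          have e : ((x * y : W) : T) * (x * y : W) =
              ((x : T) * ((y : T) * x * (y : T)⁻¹ * (x : T)⁻¹) * (x : T)⁻¹) * ((x : T) * x) * ((y : T) * y) := by
            simp only [Subgroup.coe_mul]
            group
          rw [e]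
          exact (Zs T 2).mul_mem ((Zs T 2).mul_mem
            (Subgroup.Normal.conj_mem inferInstance _ (hbr2 _ y.2 _ x.2) _) hx') hy'
        inv_mem' := by
          intro x hx
          have hx' : (x : T) * x ∈ Zs T 2 := hx
          show ((x⁻¹ : W) : T) * (x⁻¹ : W) ∈ Zs T 2
          have e : ((x⁻¹ : W) : T) * (x⁻¹ : W) = ((x : T) * x)⁻¹ := by
            simp
          rw [e]
          exact (Zs T 2).inv_mem hx' }
    have hSi : S.index ≤ 2 := by
      apply index_le_two_of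
      intro a b ha' hb'
      have ha1 : (a : T) * a ∉ Zs T 2 := ha'
      have hb1 : (b : T) * b ∉ Zs T 2 := hb'
      show ((a⁻¹ * b : W) : T) * (a⁻¹ * b : W) ∈ Zs T 2
      have e : ((a⁻¹ * b : W) : T) * (a⁻¹ * b : W) =
          ((a : T)⁻¹ * ((b : T) * (a : T)⁻¹ * (b : T)⁻¹ * ((a : T)⁻¹)⁻¹) * ((a : T)⁻¹)⁻¹) *
            (((a : T) * a)⁻¹ * ((b : T) * b)) := by
        simp only [Subgroup.coe_mul, Subgroup.coe_inv]
        group
      rw [e]
      refine (Zs T 2).mul_mem (Subgroup.Normal.conj_mem inferInstance _ (hbr2 _ b.2 _ (W.inv_mem a.2)) _) ?_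
      exact inv_mul_mem_of_card_two l2.le (by rw [c2, c3]) (hsq3 _ a.2) (hsq3 _ b.2) ha1 hb1
    have hx : (⟨e₃, hZW he₃⟩ : W) ∈ S := by
      show e₃ * e₃ ∈ Zs T 2
      have := inv_mul_mem_of_card_two l2.le (by rw [c2, c3]) ((Zs T 3).inv_mem he₃) he₃
        (fun h => he₃' (by simpa using (Zs T 2).inv_mem h)) he₃'
      simpa using this
    obtain ⟨U, hxU, hUi⟩ := exists_avoid hWp ((Zs T 2).subgroupOf W) S (fun g hg => by
      rw [Subgroup.mem_subgroupOf]
      exact hg) _ hx (by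
      rw [Subgroup.mem_subgroupOf]
      exact he₃')
    apply hxU
    apply hd U (by omega)
    have : e₃ ∈ (frattini ↥W).map W.subtype := by
      rw [hF]
      exact he₃
    obtain ⟨y, hy, hyx⟩ := this
    have : y = ⟨e₃, hZW he₃⟩ := Subtype.ext hyx
    exact this ▸ hy
  refine ⟨hCeq, ?_⟩
  have hcom3 : ∀ a ∈ W, ∀ z ∈ Zs T 3, a * z = z * a := fun a ha z hz => fix_of_mem_W hW ha hz
  let Ω : Subgroup T :=
    { carrier := {z | z ∈ Zs T 3 ∧ z * z = 1}
      one_mem' := ⟨one_mem _, by simp⟩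
      mul_mem' := by
        rintro x y ⟨hx, hx2⟩ ⟨hy, hy2⟩
        refine ⟨(Zs T 3).mul_mem hx hy, ?_⟩
        have e := hcom3 y (hZW hy) x hx
        calc x * y * (x * y) = x * (y * x) * y := by group
          _ = x * (x * y) * y := by rw [e]
          _ = (x * x) * (y * y) := by group
          _ = 1 := by rw [hx2, hy2, one_mul]
      inv_mem' := by
        rintro x ⟨hx, hx2⟩
        refine ⟨(Zs T 3).inv_mem hx, ?_⟩
        have : x⁻¹ * x⁻¹ = (x * x)⁻¹ := by group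
        rw [this, hx2, inv_one] }
  have hCΩ : C ≤ Ω := by
    rw [hC, Subgroup.map_le_iff_le_comap, commutator_def, Subgroup.commutator_le]
    intro a _ b _
    rw [Subgroup.mem_comap]
    have hc3 : ((⁅a, b⁆ : W) : T) ∈ Zs T 3 := by
      have := hbr3 _ a.2 _ b.2
      simpa [commutatorElement_def] using this
    refine ⟨hc3, ?_⟩
    have hc' : ((⁅a, b⁆ : W) : T) = (a : T) * b * (a : T)⁻¹ * (b : T)⁻¹ := by
      simp [commutatorElement_def]
    show ((⁅a, b⁆ : W) : T) * ((⁅a, b⁆ : W) : T) = 1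
    rw [hc'] at hc3 ⊢
    exact comm_sq _ _ (hcom3 _ a.2 _ hc3) (hcom3 _ b.2 ((a : T) * a) (hsq3 _ a.2))
  intro z hz
  rw [← hCeq] at hz
  exact (hCΩ hz).2

end Cfsg.Agent.Lib.RuSyl
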